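import Mathlib
import Cfsg.Agent.Lib.Helper85.SqfDefs
import Cfsg.Agent.Lib.Helper1.PCore

/-!
# SQF-[DER-BASE] (helper85's project SQF, S4130), relative form: helper50

`card_commutator_dvd_of_fitting_pGroup_of`: the statement of [DER-BASE] with [DB] and [KNOCHE] as
hypotheses.
-/

set_option autoImplicit false
set_option linter.unusedSectionVars false
set_option linter.unusedVariables false

namespace Cfsg.Agent.Lib.Helper50.Sqf

open Cfsg Cfsg.Agent.Lib.Helper85.Sqf Cfsg.Agent.Lib.Helper1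

variable {G : Type*} [Group G]

/-- if `G/F(G)` is abelian and `F(G)` is a `p`-group then `p ∤ |G : F(G)|`. -/
theorem not_dvd_index_fitting_of_isPGroup [Finite G] {p : ℕ} [Fact p.Prime]
    (hF : IsPGroup p (fittingSubgroup G))
    (hab : commutator G ≤ fittingSubgroup G) : ¬ p ∣ (fittingSubgroup G).index := by
  intro hdvd
  have hcm : IsMulCommutative (G ⧸ fittingSubgroup G) :=
    Subgroup.Normal.quotient_commutative_iff_commutator_le.mpr hab
  have hcomm : ∀ a b : G ⧸ fittingSubgroup G, a * b = b * a := fun a b => hcm.is_comm.comm a b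
  rw [Subgroup.index_eq_card] at hdvd
  obtain ⟨gb, hgb⟩ := exists_prime_orderOf_dvd_card' p hdvd
  have hKn : (Subgroup.zpowers gb).Normal :=
    ⟨fun x hx g => by rw [hcomm g x, mul_inv_cancel_right]; exact hx⟩
  have hKp : IsPGroup p (Subgroup.zpowers gb) :=
    IsPGroup.of_card (n := 1) (by rw [Nat.card_zpowers, hgb, pow_one])
  have hNn : ((Subgroup.zpowers gb).comap (QuotientGroup.mk' (fittingSubgroup G))).Normal :=
    hKn.comap _
  have hNp : IsPGroup p ((Subgroup.zpowers gb).comap (QuotientGroup.mk' (fittingSubgroup G))) :=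
    hKp.comap_of_ker_isPGroup (QuotientGroup.mk' (fittingSubgroup G))
      (by rw [QuotientGroup.ker_mk']; exact hF)
  have hNF : (Subgroup.zpowers gb).comap (QuotientGroup.mk' (fittingSubgroup G)) ≤
      fittingSubgroup G := le_fittingSubgroup hNn hNp.isNilpotent
  obtain ⟨g, rfl⟩ := QuotientGroup.mk_surjective gb
  have hgN : g ∈ (Subgroup.zpowers (g : G ⧸ fittingSubgroup G)).comap
      (QuotientGroup.mk' (fittingSubgroup G)) := by
    rw [Subgroup.mem_comap]
    exact Subgroup.mem_zpowers _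
  have hgF : g ∈ fittingSubgroup G := hNF hgN
  have h1 : (g : G ⧸ fittingSubgroup G) = 1 := (QuotientGroup.eq_one_iff g).mpr hgF
  rw [h1, orderOf_one] at hgb
  exact (Fact.out : p.Prime).one_lt.ne hgb

theorem card_commutator_dvd_of_fitting_pGroup_of [Finite G] {p : ℕ} [Fact p.Prime]
    (hDB : ∀ P : Subgroup G, P.Normal → IsPGroup p P → ∀ (t : G) (m : ℕ), m.Coprime p →
      t ^ m = 1 → P ⊔ Subgroup.zpowers t = ⊤ → (¬ ∀ v ∈ P, t * v = v * t) →
      Nat.card (commutator G) ∣ p)
    (hKN : IsPGroup p G → Nat.card (commutator G) ∣ p)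
    (hF : IsPGroup p (fittingSubgroup G))
    (hCF : Subgroup.centralizer (fittingSubgroup G : Set G) ≤ fittingSubgroup G)
    (hab : commutator G ≤ fittingSubgroup G) (hcyc : IsCyclic (G ⧸ fittingSubgroup G)) :
    Nat.card (commutator G) ∣ p := by
  have hp : p.Prime := Fact.out
  have hpm := not_dvd_index_fitting_of_isPGroup hF hab
  have hFn : (fittingSubgroup G).Normal := inferInstance
  obtain ⟨gb, hgb⟩ := hcyc.exists_generator
  obtain ⟨g, rfl⟩ := QuotientGroup.mk_surjective gb
  obtain ⟨n, hn⟩ := (IsPGroup.iff_card).mp hF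
  have hcard : p ^ n * (fittingSubgroup G).index = Nat.card G := by
    rw [← hn]; exact Subgroup.card_mul_index _
  have hmp : ((fittingSubgroup G).index).Coprime p :=
    Nat.Coprime.symm ((Nat.Prime.coprime_iff_not_dvd hp).mpr hpm)
  have htm : (g ^ p ^ n) ^ (fittingSubgroup G).index = 1 := by
    rw [← pow_mul, hcard]; exact pow_card_eq_one'
  have hcop : (p ^ n).Coprime (orderOf (g : G ⧸ fittingSubgroup G)) := by
    have h1 : orderOf (g : G ⧸ fittingSubgroup G) ∣ (fittingSubgroup G).index := by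
      rw [Subgroup.index_eq_card]; exact orderOf_dvd_natCard _
    exact Nat.Coprime.coprime_dvd_right h1 (Nat.Coprime.pow_left n hmp.symm)
  obtain ⟨a, ha⟩ := exists_pow_eq_self_of_coprime hcop
  have htop : fittingSubgroup G ⊔ Subgroup.zpowers (g ^ p ^ n) = ⊤ := by
    rw [eq_top_iff]
    intro x _
    obtain ⟨k, hk⟩ := Subgroup.mem_zpowers_iff.mp (hgb (x : G ⧸ fittingSubgroup G))
    have h2 : (x : G ⧸ fittingSubgroup G) = (((g ^ p ^ n) ^ a) ^ k : G) := by
      rw [← hk, QuotientGroup.mk_zpow, QuotientGroup.mk_pow, QuotientGroup.mk_pow, ha]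
    have h3 : (((g ^ p ^ n) ^ a) ^ k)⁻¹ * x ∈ fittingSubgroup G := by
      rw [← QuotientGroup.eq]; exact h2.symm
    have h4 : x = ((g ^ p ^ n) ^ a) ^ k * ((((g ^ p ^ n) ^ a) ^ k)⁻¹ * x) := by group
    rw [h4]
    exact Subgroup.mul_mem _
      (Subgroup.mem_sup_right
        (Subgroup.zpow_mem _ (Subgroup.pow_mem _ (Subgroup.mem_zpowers _) a) k))
      (Subgroup.mem_sup_left h3)
  by_cases hc : ∀ v ∈ fittingSubgroup G, g ^ p ^ n * v = v * g ^ p ^ n
  · have htC : g ^ p ^ n ∈ Subgroup.centralizer (fittingSubgroup G : Set G) := by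
      rw [Subgroup.mem_centralizer_iff]
      intro v hv
      exact (hc v hv).symm
    have htF : g ^ p ^ n ∈ fittingSubgroup G := hCF htC
    obtain ⟨k, hk⟩ := hF ⟨g ^ p ^ n, htF⟩
    have hk' : (g ^ p ^ n) ^ p ^ k = 1 := by
      have := congrArg Subtype.val hk
      simpa using this
    have ho1 : orderOf (g ^ p ^ n) ∣ p ^ k := orderOf_dvd_of_pow_eq_one hk'
    have ho2 : orderOf (g ^ p ^ n) ∣ (fittingSubgroup G).index := orderOf_dvd_of_pow_eq_one htm
    have ho : orderOf (g ^ p ^ n) = 1 := by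
      have hco : (p ^ k).Coprime (fittingSubgroup G).index := Nat.Coprime.pow_left k hmp.symm
      exact Nat.eq_one_of_dvd_coprimes hco ho1 ho2
    have ht1 : g ^ p ^ n = 1 := orderOf_eq_one_iff.mp ho
    rw [ht1, Subgroup.zpowers_one_eq_bot, sup_bot_eq] at htop
    apply hKN
    intro x
    have hx : x ∈ fittingSubgroup G := by rw [htop]; exact Subgroup.mem_top x
    obtain ⟨k, hk⟩ := hF ⟨x, hx⟩
    refine ⟨k, ?_⟩
    have := congrArg Subtype.val hk
    simpa using this
  · exact hDB _ hFn hF _ _ hmp htm htop hc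

end Cfsg.Agent.Lib.Helper50.Sqf
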