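import Mathlib
import Cfsg.Agent.Lib.Helper85.SqfDefs
import Cfsg.Agent.Lib.Helper1.PCore

/-!
# SQF-[IDX-U] (helper85's project SQF, S4130), relative form: helper50

`exists_fitting_witness_of`: the statement of [IDX-U] with [IDX-M] and [IDX-F] as hypotheses
(neither `SqF` nor [FDEC] is needed).
-/

set_option autoImplicit false
set_option linter.unusedSectionVars false
set_option linter.unusedVariables false
set_option linter.style.haveILetI false

namespace Cfsg.Agent.Lib.Helper50.Sqf

open Cfsg Cfsg.Agent.Lib.Helper85.Sqf Cfsg.Agent.Lib.Helper1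

variable {G : Type*} [Group G]

/-- per prime: an element `w` of `O_p(G)` such that a `q`-element commuting with `w` centralises
`O_p(G)`, from the conclusion of [IDX-M] for this `p`. -/
theorem exists_pCore_witness (q p : ℕ)
    (hM : ∀ x x' : G, (∃ k : ℕ, orderOf x = q ^ k) → (∃ k : ℕ, orderOf x' = q ^ k) →
      (¬ ∀ v ∈ pCore p G, x * v = v * x) → (¬ ∀ v ∈ pCore p G, x' * v = v * x') →
      pCore p G ⊓ Subgroup.centralizer ({x} : Set G) =
        pCore p G ⊓ Subgroup.centralizer ({x'} : Set G)) :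
    ∃ w ∈ pCore p G, ∀ y : G, (∃ k : ℕ, orderOf y = q ^ k) → y * w = w * y →
      ∀ v ∈ pCore p G, y * v = v * y := by
  by_cases hall : ∀ y : G, (∃ k : ℕ, orderOf y = q ^ k) → ∀ v ∈ pCore p G, y * v = v * y
  · exact ⟨1, one_mem _, fun y hy _ => hall y hy⟩
  · push Not at hall
    obtain ⟨y₀, hy₀, v, hv, hne⟩ := hall
    refine ⟨v, hv, fun y hy hyw => ?_⟩
    by_contra hny
    have hy₀n : ¬ ∀ v ∈ pCore p G, y₀ * v = v * y₀ := fun h => hne (h v hv)
    have heq := hM y₀ y hy₀ hy hy₀n hny
    have hvy : v ∈ pCore p G ⊓ Subgroup.centralizer ({y} : Set G) := by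
      refine Subgroup.mem_inf.mpr ⟨hv, ?_⟩
      rw [Subgroup.mem_centralizer_iff]
      intro z hz
      rw [Set.mem_singleton_iff.mp hz]
      exact hyw
    rw [← heq] at hvy
    have h2 := (Subgroup.mem_inf.mp hvy).2
    rw [Subgroup.mem_centralizer_iff] at h2
    exact hne (h2 y₀ rfl)

/-- two commuting elements of coprime orders are powers of their product. -/
theorem commute_of_commute_mul {u w y : G} (huw : Commute u w)
    (hco : (orderOf u).Coprime (orderOf w)) (hy : Commute y (u * w)) :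
    Commute y u ∧ Commute y w := by
  obtain ⟨m, hm⟩ := exists_pow_eq_self_of_coprime (x := u) (n := orderOf w) hco.symm
  obtain ⟨m', hm'⟩ := exists_pow_eq_self_of_coprime (x := w) (n := orderOf u) hco
  have h1 : ((u * w) ^ orderOf w) ^ m = u := by
    rw [huw.mul_pow, pow_orderOf_eq_one, mul_one, hm]
  have h2 : ((u * w) ^ orderOf u) ^ m' = w := by
    rw [huw.mul_pow, pow_orderOf_eq_one, one_mul, hm']
  constructor
  · rw [← h1]; exact (hy.pow_right _).pow_right _
  · rw [← h2]; exact (hy.pow_right _).pow_right _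

/-- the product of the witnesses over a finite set of primes. -/
theorem exists_prod_witness [Finite G] (w : ℕ → G) (hw : ∀ p : ℕ, p.Prime → w p ∈ pCore p G)
    (S : Finset ℕ) (hS : ∀ p ∈ S, p.Prime) :
    ∃ u ∈ fittingSubgroup G, (∀ p : ℕ, p.Prime → p ∉ S → (orderOf u).Coprime p) ∧
      (∀ p : ℕ, p.Prime → p ∉ S → ∀ v ∈ pCore p G, u * v = v * u) ∧
      (∀ y : G, y * u = u * y → ∀ p ∈ S, y * w p = w p * y) := by
  induction S using Finset.induction_on with
  | empty =>
    refine ⟨1, one_mem _, ?_, ?_, ?_⟩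
    · intro p _ _; rw [orderOf_one]; exact Nat.coprime_one_left p
    · intro p _ _ v _; rw [one_mul, mul_one]
    · intro y _ p hp; simp at hp
  | insert p S hpS ih =>
    have hp : p.Prime := hS p (Finset.mem_insert_self p S)
    haveI : Fact p.Prime := ⟨hp⟩
    obtain ⟨u, huF, h2, h3, h4⟩ := ih (fun r hr => hS r (Finset.mem_insert_of_mem hr))
    have hwp : w p ∈ pCore p G := hw p hp
    have hwF : w p ∈ fittingSubgroup G :=
      le_fittingSubgroup (pCore_normal p) (pCore_isPGroup p).isNilpotent hwp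
    have huw : Commute u (w p) := h3 p hp hpS (w p) hwp
    obtain ⟨k, hk⟩ := (IsPGroup.iff_orderOf.mp (pCore_isPGroup (G := G) p)) ⟨w p, hwp⟩
    have hk' : orderOf (w p) = p ^ k := by
      rw [← hk, ← Subgroup.orderOf_coe]
    have hco : (orderOf u).Coprime (orderOf (w p)) := by
      rw [hk']; exact Nat.Coprime.pow_right k (h2 p hp hpS)
    refine ⟨u * w p, Subgroup.mul_mem _ huF hwF, ?_, ?_, ?_⟩
    · intro r hr hrS
      rw [Finset.mem_insert, not_or] at hrS
      rw [huw.orderOf_mul_eq_mul_orderOf_of_coprime hco, hk']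
      exact Nat.Coprime.mul_left (h2 r hr hrS.2)
        (Nat.Coprime.pow_left k ((Nat.coprime_primes hp hr).mpr (Ne.symm hrS.1)))
    · intro r hr hrS v hv
      rw [Finset.mem_insert, not_or] at hrS
      haveI : Fact r.Prime := ⟨hr⟩
      have hdis : Disjoint (pCore p G) (pCore r G) :=
        IsPGroup.disjoint_of_ne p r (Ne.symm hrS.1) _ _ (pCore_isPGroup p) (pCore_isPGroup r)
      have hwv : Commute (w p) v :=
        Subgroup.commute_of_normal_of_disjoint _ _ (pCore_normal p) (pCore_normal r) hdis _ _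
          hwp hv
      have huv : u * v = v * u := h3 r hr hrS.2 v hv
      calc u * w p * v = u * (w p * v) := mul_assoc _ _ _
        _ = u * (v * w p) := by rw [hwv.eq]
        _ = (u * v) * w p := (mul_assoc _ _ _).symm
        _ = (v * u) * w p := by rw [huv]
        _ = v * (u * w p) := mul_assoc _ _ _
    · intro y hy r hr
      obtain ⟨hyu, hyw⟩ := commute_of_commute_mul huw hco (show Commute y (u * w p) from hy)
      rw [Finset.mem_insert] at hr
      rcases hr with rfl | hr
      · exact hyw.eq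
      · exact h4 y hyu.eq r hr

theorem exists_fitting_witness_of [Finite G] (q : ℕ) [Fact q.Prime]
    (hM : ∀ p : ℕ, p.Prime → p ≠ q → ∀ x x' : G, (∃ k : ℕ, orderOf x = q ^ k) →
      (∃ k : ℕ, orderOf x' = q ^ k) → (¬ ∀ v ∈ pCore p G, x * v = v * x) →
      (¬ ∀ v ∈ pCore p G, x' * v = v * x') →
      pCore p G ⊓ Subgroup.centralizer ({x} : Set G) =
        pCore p G ⊓ Subgroup.centralizer ({x'} : Set G))
    (hIF : ∀ x : G, (∃ k : ℕ, orderOf x = q ^ k) →
      (∀ p : ℕ, p.Prime → p ≠ q → ∀ v ∈ pCore p G, x * v = v * x) → x ∈ fittingSubgroup G) :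
    ∃ u ∈ fittingSubgroup G, ∀ y : G, (∃ k : ℕ, orderOf y = q ^ k) → y * u = u * y →
      y ∈ fittingSubgroup G := by
  have hex : ∀ p : ℕ, ∃ w : G, p.Prime → p ≠ q → (w ∈ pCore p G ∧
      ∀ y : G, (∃ k : ℕ, orderOf y = q ^ k) → y * w = w * y →
        ∀ v ∈ pCore p G, y * v = v * y) := by
    intro p
    by_cases hp : p.Prime ∧ p ≠ q
    · obtain ⟨w, hw, hw'⟩ := exists_pCore_witness (G := G) q p (hM p hp.1 hp.2)
      exact ⟨w, fun _ _ => ⟨hw, hw'⟩⟩
    · exact ⟨1, fun h1 h2 => absurd ⟨h1, h2⟩ hp⟩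
  choose w0 hw0 using hex
  -- make the witness lie in the `p`-core for every prime
  obtain ⟨w, hw, hw'⟩ : ∃ w : ℕ → G, (∀ p : ℕ, p.Prime → w p ∈ pCore p G) ∧
      ∀ p : ℕ, p.Prime → p ≠ q → ∀ y : G, (∃ k : ℕ, orderOf y = q ^ k) → y * w p = w p * y →
        ∀ v ∈ pCore p G, y * v = v * y := by
    classical
    refine ⟨fun p => if p = q then 1 else w0 p, ?_, ?_⟩
    · intro p hp
      by_cases hpq : p = q
      · simp only [hpq, if_true]; exact one_mem _
      · simp only [hpq, if_false]; exact (hw0 p hp hpq).1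
    · intro p hp hpq
      simp only [hpq, if_false]
      exact (hw0 p hp hpq).2
  obtain ⟨u, huF, -, -, h4⟩ := exists_prod_witness w hw ((Nat.card G).primeFactors.erase q)
    (fun p hp => Nat.prime_of_mem_primeFactors (Finset.mem_of_mem_erase hp))
  refine ⟨u, huF, fun y hy hyu => hIF y hy ?_⟩
  intro p hp hpq v hv
  by_cases hpd : p ∣ Nat.card G
  · have hpS : p ∈ (Nat.card G).primeFactors.erase q := by
      rw [Finset.mem_erase, Nat.mem_primeFactors]
      exact ⟨hpq, hp, hpd, Nat.card_pos.ne'⟩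
    exact hw' p hp hpq y hy (h4 y hyu p hpS) v hv
  · -- `O_p(G)` is trivial
    haveI : Fact p.Prime := ⟨hp⟩
    obtain ⟨n, hn⟩ := (IsPGroup.iff_card).mp (pCore_isPGroup (G := G) p)
    have hdvd : p ^ n ∣ Nat.card G := by
      rw [← hn]; exact Subgroup.card_subgroup_dvd_card _
    have hn0 : n = 0 := by
      by_contra hn0
      exact hpd (dvd_trans (dvd_pow_self p hn0) hdvd)
    rw [hn0, pow_zero] at hn
    have hbot : pCore p G = ⊥ := Subgroup.card_eq_one.mp hn
    rw [hbot, Subgroup.mem_bot] at hv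
    rw [hv, mul_one, one_mul]

end Cfsg.Agent.Lib.Helper50.Sqf
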