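import Mathlib
import Cfsg.Agent.Lib.Helper85.SqfDefs
import Cfsg.Agent.Lib.Helper36.SqfIdxH
import Cfsg.Agent.Lib.Helper36.SqfMinP
import Cfsg.Agent.Lib.Helper1.MinimalNormal

/-!
# SQF-[MIN] (helper85's project SQF, S4130): helper50 (hedge)

`card_minimal_normal_prime`: a minimal normal subgroup of a finite solvable group with squarefree
class sizes has prime order.  Uses [MIN-P], [IDX-H], [PIDX] of helper36.
-/

set_option autoImplicit false
set_option linter.unusedSectionVars false
set_option linter.unusedVariables false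
set_option linter.style.haveILetI false

namespace Cfsg.Agent.Lib.Helper50.Sqf

open Cfsg Cfsg.Agent.Lib.Helper85.Sqf Cfsg.Agent.Lib.Helper1

variable {G : Type*} [Group G]

/-- step (0): if `N ⊓ C(a)` is a proper subgroup of the minimal normal `p`-subgroup `N` which is
normal in `G`, then `|N| = p`. -/
theorem card_eq_prime_of_inf_centralizer_normal [Finite G] (h : SqF G) {p : ℕ} [Fact p.Prime]
    (N : Subgroup G) [N.Normal] (hNp : IsPGroup p N) (hN : N ≠ ⊥)
    (hmin : ∀ M : Subgroup G, M.Normal → M ≤ N → M = ⊥ ∨ M = N) (a : G)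
    (hH : (N ⊓ Subgroup.centralizer ({a} : Set G)).Normal)
    (hne : N ⊓ Subgroup.centralizer ({a} : Set G) ≠ N) : Nat.card N = p := by
  have hp : p.Prime := Fact.out
  have hbot : N ⊓ Subgroup.centralizer ({a} : Set G) = ⊥ :=
    (hmin _ hH inf_le_left).resolve_right hne
  have hd := Cfsg.Agent.Lib.Helper36.Sqf.card_dvd_mul_card_inf h N hNp a
  rw [hbot, Subgroup.card_bot, mul_one] at hd
  rcases (Nat.dvd_prime hp).mp hd with h1 | h1
  · exact absurd (Subgroup.card_eq_one.mp h1) hN
  · exact h1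

theorem card_minimal_normal_prime [Finite G] [Group.IsSolvable G] (h : SqF G) (N : Subgroup G)
    [N.Normal] (hN : N ≠ ⊥) (hmin : ∀ M : Subgroup G, M.Normal → M ≤ N → M = ⊥ ∨ M = N) :
    (Nat.card N).Prime := by
  obtain ⟨hcN, p, hp, hpow⟩ := Cfsg.Agent.S0043.result N hN hmin
  haveI : Fact p.Prime := ⟨hp⟩
  have hNp : IsPGroup p N := by
    intro x
    refine ⟨1, ?_⟩
    rw [pow_one]
    exact Subtype.ext (by simpa using hpow x x.2)
  by_cases hC : Subgroup.centralizer (N : Set G) = ⊤
  · -- `N` is central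
    obtain ⟨⟨x, hxN⟩, hx1'⟩ := (Subgroup.ne_bot_iff_exists_ne_one).mp hN
    have hx1 : x ≠ 1 := fun h => hx1' (Subtype.ext h)
    have hxc : ∀ g : G, g * x = x * g := by
      intro g
      have hg : g ∈ Subgroup.centralizer (N : Set G) := by rw [hC]; exact Subgroup.mem_top g
      rw [Subgroup.mem_centralizer_iff] at hg
      exact (hg x hxN).symm
    have hzn : (Subgroup.zpowers x).Normal := by
      refine ⟨fun y hy g => ?_⟩
      obtain ⟨k, rfl⟩ := Subgroup.mem_zpowers_iff.mp hy
      have : g * x ^ k * g⁻¹ = x ^ k := by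
        have hc : Commute g (x ^ k) := (show Commute g x from hxc g).zpow_right k
        rw [hc.eq, mul_inv_cancel_right]
      rw [this]
      exact Subgroup.zpow_mem_zpowers x k
    have hzle : Subgroup.zpowers x ≤ N := (Subgroup.zpowers_le).mpr hxN
    have hzne : Subgroup.zpowers x ≠ ⊥ := by
      rw [Ne, Subgroup.zpowers_eq_bot]; exact hx1
    have hz : Subgroup.zpowers x = N := (hmin _ hzn hzle).resolve_left hzne
    have hord : orderOf x = p := orderOf_eq_prime (hpow x hxN) hx1
    rw [← hz, Nat.card_zpowers, hord]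
    exact hp
  · -- `C ≠ ⊤`
    obtain ⟨C, hCdef⟩ : ∃ C : Subgroup G, C = Subgroup.centralizer (N : Set G) := ⟨_, rfl⟩
    rw [← hCdef] at hC
    haveI hCn : C.Normal := by rw [hCdef]; infer_instance
    haveI : Nontrivial (G ⧸ C) := by
      rw [QuotientGroup.nontrivial_iff]
      exact hC
    obtain ⟨q, Ab, hq, hAbn, hAb1, hAbq, hAbc, hAbpow, -⟩ :=
      exists_normal_pSubgroup_of_isSolvable (G := G ⧸ C)
    haveI : Fact q.Prime := ⟨hq⟩
    obtain ⟨A, hAdef⟩ : ∃ A : Subgroup G, A = Ab.comap (QuotientGroup.mk' C) := ⟨_, rfl⟩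
    haveI hAn : A.Normal := by rw [hAdef]; exact hAbn.comap _
    have hAmem : ∀ a : G, a ∈ A ↔ (a : G ⧸ C) ∈ Ab := by
      intro a; rw [hAdef, Subgroup.mem_comap]; rfl
    have hAq : ∀ a ∈ A, a ^ q ∈ C := by
      intro a ha
      rw [← QuotientGroup.eq_one_iff, QuotientGroup.mk_pow]
      exact hAbpow _ ((hAmem a).mp ha)
    have hAc : ∀ a ∈ A, ∀ b ∈ A, b * a * b⁻¹ * a⁻¹ ∈ C := by
      intro a ha b hb
      rw [← QuotientGroup.eq_one_iff]
      have hcomm : (b : G ⧸ C) * (a : G ⧸ C) = (a : G ⧸ C) * (b : G ⧸ C) := by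
        have := hAbc.is_comm.comm (⟨_, (hAmem b).mp hb⟩ : Ab) ⟨_, (hAmem a).mp ha⟩
        exact congrArg Subtype.val this
      simp only [QuotientGroup.mk_mul, QuotientGroup.mk_inv]
      rw [hcomm]; group
    have hCmem : ∀ g : G, g ∈ C ↔ ∀ v ∈ N, g * v = v * g := by
      intro g
      rw [hCdef, Subgroup.mem_centralizer_iff]
      exact ⟨fun h v hv => (h v hv).symm, fun h v hv => (h v hv).symm⟩
    obtain ⟨⟨ab, hab⟩, hab1'⟩ := (Subgroup.ne_bot_iff_exists_ne_one).mp hAb1
    obtain ⟨a, rfl⟩ := QuotientGroup.mk_surjective ab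
    have haA : a ∈ A := (hAmem a).mpr hab
    have haC : a ∉ C := fun h => hab1' (Subtype.ext ((QuotientGroup.eq_one_iff a).mpr h))
    have hqp : q ≠ p := by
      rintro rfl
      have := Cfsg.Agent.Lib.Helper36.Sqf.centralizes_of_pPower_action N hNp hN hmin A
        (fun a ha => ⟨1, by rw [pow_one]; exact (hCmem _).mp (hAq a ha)⟩)
      exact haC ((hCmem a).mpr (this a haA))
    have hcop : q.Coprime p := (Nat.coprime_primes hq hp).mpr hqp
    have key : ∀ b ∈ A, b ∉ C → N ⊓ Subgroup.centralizer ({a} : Set G) =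
        N ⊓ Subgroup.centralizer ({b} : Set G) := by
      intro b hbA hbC
      refine Cfsg.Agent.Lib.Helper36.Sqf.inf_centralizer_eq_of_inner_comm h N hNp a b
        (fun hh => haC ((hCmem a).mpr hh)) (fun hh => hbC ((hCmem b).mpr hh)) q q hcop hcop
        ((hCmem _).mp (hAq a haA)) ((hCmem _).mp (hAq b hbA)) 1 (one_mem _) ?_
      intro v hv
      have hk := (hCmem _).mp (hAc a haA b hbA) v hv
      rw [hk, mul_inv_cancel_right, one_mul, inv_one, mul_one]
    have hHn : (N ⊓ Subgroup.centralizer ({a} : Set G)).Normal := by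
      refine ⟨fun n hn g => ?_⟩
      have hnN : n ∈ N := (Subgroup.mem_inf.mp hn).1
      have hbA : g⁻¹ * a * g ∈ A := by
        have := hAn.conj_mem a haA g⁻¹
        rwa [inv_inv] at this
      have hbC : g⁻¹ * a * g ∉ C := by
        intro hb
        apply haC
        have := hCn.conj_mem _ hb g
        have h2 : g * (g⁻¹ * a * g) * g⁻¹ = a := by group
        rwa [h2] at this
      have hn' : n ∈ N ⊓ Subgroup.centralizer ({g⁻¹ * a * g} : Set G) := by
        rw [← key _ hbA hbC]; exact hn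
      have hnb : n * (g⁻¹ * a * g) = (g⁻¹ * a * g) * n :=
        Subgroup.mem_centralizer_singleton_iff.mp (Subgroup.mem_inf.mp hn').2
      refine Subgroup.mem_inf.mpr ⟨(inferInstance : N.Normal).conj_mem n hnN g, ?_⟩
      rw [Subgroup.mem_centralizer_singleton_iff]
      calc g * n * g⁻¹ * a = g * (n * (g⁻¹ * a * g)) * g⁻¹ := by group
        _ = g * ((g⁻¹ * a * g) * n) * g⁻¹ := by rw [hnb]
        _ = a * (g * n * g⁻¹) := by group
    have hHne : N ⊓ Subgroup.centralizer ({a} : Set G) ≠ N := by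
      intro hh
      apply haC
      rw [hCmem]
      intro v hv
      have hv' : v ∈ N ⊓ Subgroup.centralizer ({a} : Set G) := by rw [hh]; exact hv
      exact (Subgroup.mem_centralizer_singleton_iff.mp (Subgroup.mem_inf.mp hv').2).symm
    rw [card_eq_prime_of_inf_centralizer_normal h N hNp hN hmin a hHn hHne]
    exact hp

end Cfsg.Agent.Lib.Helper50.Sqf
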